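import Groth.Agent.L18.ProjMap

/-!
`Proj.map` of a surjection which is injective in large degrees is an isomorphism.
-/

noncomputable section

namespace Groth.Agent.L24.ProjEvent

open HomogeneousIdeal HomogeneousLocalization DirectSum CategoryTheory AlgebraicGeometry CategoryTheory.Limits

universe u

variable {R A : Type u} [CommRing R] [CommRing A] [Algebra R A]
variable {𝒜 : ℕ → Submodule R A} [GradedAlgebra 𝒜]
variable {R' B : Type u} [CommRing R'] [CommRing B] [Algebra R' B]
variable {ℬ : ℕ → Submodule R' B} [GradedAlgebra ℬ]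
variable (φ : 𝒜 →+*ᵍ ℬ)
variable (hφ : ℬ₊ ≤ 𝒜₊.map φ)

theorem away_map_injective {i : ℕ} (hi : 0 < i) (s : A) (hs : s ∈ 𝒜 i) (M : ℕ)
    (h : ∀ n : ℕ, M ≤ n → ∀ x ∈ 𝒜 n, φ x = 0 → x = 0) :
    Function.Injective (Away.map φ s) := by
  rw [injective_iff_map_eq_zero]
  intro x hx
  obtain ⟨n, a, ha, rfl⟩ := Away.mk_surjective 𝒜 hs x
  rw [Away.map_mk] at hx
  have hx' := congrArg HomogeneousLocalization.val hx
  rw [Away.val_mk, HomogeneousLocalization.val_zero, Localization.mk_eq_mk',
    IsLocalization.mk'_eq_zero_iff] at hx'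
  obtain ⟨⟨_, N, rfl⟩, hN⟩ := hx'
  simp only at hN
  have hmem : s ^ (N + M) * a ∈ 𝒜 ((N + M) • i + n • i) :=
    SetLike.mul_mem_graded (SetLike.pow_mem_graded _ hs) ha
  have h0 : s ^ (N + M) * a = 0 := by
    refine h _ ?_ _ hmem ?_
    · have : M * 1 ≤ (N + M) * i := Nat.mul_le_mul (Nat.le_add_left _ _) hi
      simp only [smul_eq_mul]; omega
    · rw [map_mul, map_pow, pow_add, mul_comm (φ s ^ N), mul_assoc, hN, mul_zero]
  ext
  rw [Away.val_mk, HomogeneousLocalization.val_zero, Localization.mk_eq_mk',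
    IsLocalization.mk'_eq_zero_iff]
  exact ⟨⟨s ^ (N + M), N + M, rfl⟩, h0⟩

theorem isIso_map (hsurj : Function.Surjective φ) (M : ℕ)
    (hinj : ∀ n : ℕ, M ≤ n → ∀ x ∈ 𝒜 n, φ x = 0 → x = 0) : IsIso (Proj.map φ hφ) :=
  Groth.L18.map_property φ hφ (MorphismProperty.isomorphisms Scheme.{u}) fun i hi s hs => by
    have hb : Function.Bijective (Away.map φ s) :=
      ⟨away_map_injective φ hi s hs M hinj,
        Groth.L18.away_map_surjective φ hi s hs fun n _ y hy =>
          Groth.L18.exists_degree_preimage_of_surjective φ hsurj n hy⟩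
    have : IsIso (CommRingCat.ofHom (Away.map φ s)) :=
      (ConcreteCategory.isIso_iff_bijective _).mpr hb
    exact MorphismProperty.isomorphisms.infer_property _

end Groth.Agent.L24.ProjEvent
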